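import Groth.Agent.Eg2Twist.TensorFrame

/-!
# Tensoring sections with a frame is bijective
-/

noncomputable section

universe u

open CategoryTheory CategoryTheory.Limits AlgebraicGeometry TopologicalSpace Opposite MonoidalCategory
open Groth.Agent.AModX Groth.Agent.InvX
open scoped TensorProduct

set_option backward.isDefEq.respectTransparency false
set_option backward.isDefEq.respectTransparency.types false
set_option linter.style.haveILetI false

namespace Groth.Agent.Eg2Twist

variable {X : Scheme.{u}} {M N : X.Modules}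

lemma eq_zero_of_tmul_frame {U : X.Opens} {e : Γ(N, U)} (he : IsFrame e) {V : X.Opens} (h : V ≤ U)
    {a : Γ(M, V)} (ha : tmul a (res N h e) = 0) : a = 0 := by
  refine TopCat.Presheaf.section_ext ⟨M.presheaf, M.isSheaf⟩ _ _ _ fun x hx => ?_
  let P := CohB1.toPMod M
  let Q := CohB1.toPMod N
  let ga : KFlatLib.stalkMod x P := KFlatLib.germP P V hx a
  let gb : KFlatLib.stalkMod x Q := KFlatLib.germP Q V hx (res N h e)
  let eb := LinearEquiv.ofBijective (LinearMap.toSpanSingleton (X.presheaf.stalk x) (KFlatLib.stalkMod x Q) gb)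
    ((he.res h).germ_bijective hx)
  have h1 : eb.symm gb = 1 := by
    rw [LinearEquiv.symm_apply_eq]
    exact (one_smul (X.presheaf.stalk x) gb).symm
  haveI := KFlatLib.isIso_stalk_unitShP (x := x) (P ⊗ Q)
  let u := (KFlatLib.stalkP x).map (KFlatLib.unitShP (P ⊗ Q))
  have hu : Function.Bijective u.hom := ConcreteCategory.bijective_of_isIso u
  have hz : u.hom (KFlatLib.tensorStalkEquiv P Q (ga ⊗ₜ gb)) = 0 := by
    refine Eq.trans ?_ (map_zero (TopCat.Presheaf.germ
      (show TopCat.Presheaf AddCommGrpCat.{u} X.carrier from (DCoh.toP.obj (DCoh.shP.obj (P ⊗ Q))).presheaf) V x hx).hom)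
    refine (congrArg u.hom (KFlatLib.ofTensor_germ V hx a (res N h e))).trans ?_
    refine (KFlatLib.stalkModMap_germ (KFlatLib.unitShP (P ⊗ Q)) V hx (KFlatLib.tm a (res N h e))).trans ?_
    exact congrArg _ ha
  have hz' : ga ⊗ₜ[X.presheaf.stalk x] gb = 0 :=
    (KFlatLib.tensorStalkEquiv P Q).injective (hu.1 (hz.trans (by rw [map_zero, map_zero])))
  have h2 := congrArg (fun t => TensorProduct.rid (X.presheaf.stalk x) (KFlatLib.stalkMod x P)
    (TensorProduct.congr (LinearEquiv.refl _ _) eb.symm t)) hz'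
  simp only [TensorProduct.congr_tmul, LinearEquiv.refl_apply, h1, TensorProduct.rid_tmul, one_smul,
    map_zero] at h2
  exact h2.trans (map_zero _).symm

/-- `s ↦ s ⊗ e` is bijective where `e` is a frame. -/
theorem bijective_tmul_frame {U : X.Opens} {e : Γ(N, U)} (he : IsFrame e) {V : X.Opens} (h : V ≤ U) :
    Function.Bijective fun s : Γ(M, V) => tmul s (res N h e) := by
  have hinj : ∀ (W : X.Opens) (hW : W ≤ U) (a b : Γ(M, W)),
      tmul a (res N hW e) = tmul b (res N hW e) → a = b := fun W hW a b hab => by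
    refine sub_eq_zero.1 (eq_zero_of_tmul_frame he hW ?_)
    have h1 := tmul_add_left (a - b) b (res N hW e)
    rw [sub_add_cancel, hab, right_eq_add] at h1
    exact h1
  refine ⟨hinj V h, fun z => ?_⟩
  have hloc : ∀ x : V, ∃ (W : X.Opens) (hW : W ≤ V) (s : Γ(M, W)), x.1 ∈ W ∧
      res (CohB1.tensorMod M N) hW z = tmul s (res N (hW.trans h) e) := fun x => by
    obtain ⟨W, hV, _, s, hx, hs⟩ := exists_tmul_frame he z x.2 (h x.2)
    exact ⟨W, hV, s, hx, hs⟩
  choose W hW s hxW hs using hloc
  obtain ⟨S, hS, -⟩ := existsUnique_glue (M := M) (V := V) W hW (fun x hx => ⟨⟨x, hx⟩, hxW ⟨x, hx⟩⟩) s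
    fun x y => by
      have h1 := congrArg (res (CohB1.tensorMod M N) (inf_le_left : W x ⊓ W y ≤ W x)) (hs x)
      have h2 := congrArg (res (CohB1.tensorMod M N) (inf_le_right : W x ⊓ W y ≤ W y)) (hs y)
      rw [res_tmul, res_res, res_res] at h1 h2
      exact hinj _ ((inf_le_left.trans (hW x)).trans h) _ _ (h1.symm.trans h2)
  refine ⟨S, eq_of_locally _ _ fun x hx => ⟨W ⟨x, hx⟩, hW _, hxW _, ?_⟩⟩
  rw [res_tmul, hS, hs, res_res]

end Groth.Agent.Eg2Twist
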