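import Groth.Agent.InvX.Tensor

/-!
# Isomorphisms from frames with the same transition functions
-/

noncomputable section

universe u

open CategoryTheory AlgebraicGeometry TopologicalSpace Opposite
open Groth.Agent.AModX Groth.Agent.InvX

namespace Groth.Agent.Eg2Twist

/-- Modules with frames having the same transition functions are isomorphic. -/
theorem nonempty_iso_of_frames {X : Scheme.{u}} {M N : X.Modules} {ι : Type u} (U : ι → X.Opens)
    (hcov : ∀ x, ∃ a, x ∈ U a) (e : ∀ a, Γ(M, U a)) (n : ∀ a, Γ(N, U a))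
    (he : ∀ a, IsFrame (e a)) (hn : ∀ a, IsFrame (n a))
    (hc : ∀ (a b : ι) (W : X.Opens) (ha : W ≤ U a) (hb : W ≤ U b) (g : Γ(X, W)),
      res M hb (e b) = g • res M ha (e a) → res N hb (n b) = g • res N ha (n a)) :
    Nonempty (M ≅ N) := by
  have hc' : ∀ (a b : ι) (W : X.Opens) (ha : W ≤ U a) (hb : W ≤ U b) (g : Γ(X, W)),
      res N hb (n b) = g • res N ha (n a) → res M hb (e b) = g • res M ha (e a) := by
    intro a b W ha hb g hg
    obtain ⟨k, hk⟩ := (he a).exists_coord ha (res M hb (e b))
    rw [hk, (hn a).coord_unique ha ((hc a b W ha hb k hk).symm.trans hg)]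
  refine ⟨⟨ofFrames hcov he hc, ofFrames hcov hn hc',
    hom_ext_of_frames U hcov e he fun a => ?_, hom_ext_of_frames U hcov n hn fun a => ?_⟩⟩
  · show (ofFrames hcov hn hc').app (U a) ((ofFrames hcov he hc).app (U a) (e a)) = e a
    rw [ofFrames_app, ofFrames_app]
  · show (ofFrames hcov he hc).app (U a) ((ofFrames hcov hn hc').app (U a) (n a)) = n a
    rw [ofFrames_app, ofFrames_app]

end Groth.Agent.Eg2Twist
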