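import Groth.Agent.Eg2Gamma.Iso
import Groth.Agent.EgaQ.TwistExist
import Groth.Agent.GrModX.QCohTilde
import Groth.Agent.QCoh.PullbackBC
import Groth.Agent.Proj16.Graded
import Groth.Agent.Proj16.ConeData
import Groth.Prelude.Def_Twist2
import Mathlib.RingTheory.IsTensorProduct

/-!
# Base change of the twisting sheaves
-/

noncomputable section

universe u

open CategoryTheory AlgebraicGeometry TopologicalSpace Opposite HomogeneousLocalization DirectSum
open Groth.Agent.AModX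
open scoped HomogeneousIdeal

set_option backward.isDefEq.respectTransparency false
set_option backward.isDefEq.respectTransparency.types false
set_option linter.all false

namespace Groth.Agent.Eg2Twist.BC

/-- Extension of an additive map along a base change of algebras. -/
theorem exists_ext {R R' A B G S : Type u} [CommRing R] [CommRing R'] [Algebra R' R] [CommRing A] [CommRing B]
    [Algebra R' B] [Algebra R A] [Algebra R' A] [IsScalarTower R' R A] [Algebra B A] [IsScalarTower R' B A]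
    [Algebra.IsPushout R' R B A] [CommRing S] [AddCommGroup G] [Module S G] (ρ : R →+* S) (g : B →+ G)
    (hg : ∀ (r' : R') (b : B), g (r' • b) = ρ (algebraMap R' R r') • g b) :
    ∃ Φ : A →+ G, (∀ b, Φ (algebraMap B A b) = g b) ∧ ∀ (r : R) (a : A), Φ (r • a) = ρ r • Φ a := by
  letI : Module R G := Module.compHom G ρ
  letI : Module R' G := Module.compHom G (ρ.comp (algebraMap R' R))
  haveI : IsScalarTower R' R G := IsScalarTower.of_algebraMap_smul fun _ _ => rfl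
  let g' : B →ₗ[R'] G := { g with map_smul' := hg }
  have hbc : IsBaseChange R (IsScalarTower.toAlgHom R' B A).toLinearMap := Algebra.IsPushout.out
  exact ⟨(hbc.lift g').toAddMonoidHom, fun b => hbc.lift_eq g' b, fun r a => (hbc.lift g').map_smul r a⟩

@[elab_as_elim]
theorem induction_on {R R' A B : Type u} [CommRing R] [CommRing R'] [Algebra R' R] [CommRing A] [CommRing B]
    [Algebra R' B] [Algebra R A] [Algebra R' A] [IsScalarTower R' R A] [Algebra B A] [IsScalarTower R' B A]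
    [Algebra.IsPushout R' R B A] {motive : A → Prop} (a : A) (h0 : motive 0)
    (hb : ∀ b : B, motive (algebraMap B A b)) (hr : ∀ (r : R) a, motive a → motive (r • a))
    (ha : ∀ a a', motive a → motive a' → motive (a + a')) : motive a := by
  have hbc : IsBaseChange R (IsScalarTower.toAlgHom R' B A).toLinearMap := Algebra.IsPushout.out
  exact hbc.inductionOn a motive h0 hb hr ha

section graded

variable {R A : Type u} [CommRing R] [CommRing A] [Algebra R A] (𝒜 : ℕ → Submodule R A) [GradedAlgebra 𝒜]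

/-- Projection to an integral degree. -/
def pd (z : ℤ) : A →+ A := if 0 ≤ z then GradedRing.proj 𝒜 z.toNat else 0

lemma deg_pd (z : ℤ) (a : A) : GrModX.Deg 𝒜 z (pd 𝒜 z a) := by
  unfold pd
  split_ifs with h
  · exact Or.inr ⟨z.toNat, Int.toNat_of_nonneg h, Proj16.proj_mem 𝒜 _ a⟩
  · exact Or.inl rfl

lemma pd_of_deg {z : ℤ} {a : A} (h : GrModX.Deg 𝒜 z a) : pd 𝒜 z a = a := by
  rcases h with rfl | ⟨i, rfl, hi⟩
  · exact map_zero _
  · simp only [pd, Int.natCast_nonneg, if_true, Int.toNat_natCast]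
    exact Proj16.proj_of_mem 𝒜 hi

lemma pd_mul {e : ℕ} {x : A} (hx : x ∈ 𝒜 e) (z : ℤ) (a : A) : pd 𝒜 (z + e) (x * a) = x * pd 𝒜 z a := by
  classical
  unfold pd
  split_ifs with h1 h2 h2
  · rw [GradedRing.proj_apply, GradedRing.proj_apply,
      DirectSum.coe_decompose_mul_of_left_mem_of_le 𝒜 hx (show e ≤ (z + e).toNat by omega)]
    rw [show (z + e).toNat - e = z.toNat by omega]
  · rw [GradedRing.proj_apply, DirectSum.coe_decompose_mul_of_left_mem_of_not_le 𝒜 hx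
      (show ¬ e ≤ (z + e).toNat by omega), AddMonoidHom.zero_apply, mul_zero]
  · omega
  · rw [AddMonoidHom.zero_apply, AddMonoidHom.zero_apply, mul_zero]

lemma pd_smul (z : ℤ) (r : R) (a : A) : pd 𝒜 z (r • a) = r • pd 𝒜 z a := by
  have h := pd_mul 𝒜 (SetLike.algebraMap_mem_graded 𝒜 r) z a
  rwa [Nat.cast_zero, add_zero, ← Algebra.smul_def, ← Algebra.smul_def] at h

lemma proj_smul (i : ℕ) (r : R) (a : A) : GradedRing.proj 𝒜 i (r • a) = r • GradedRing.proj 𝒜 i a := by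
  simpa [pd] using pd_smul 𝒜 (i : ℤ) r a

variable (n : ℤ) {f : A} {d : ℕ} (hf : f ∈ 𝒜 d)

/-- The degree of the numerators. -/
abbrev dg (d k : ℕ) : ℤ := ((k * d : ℕ) : ℤ) + n

/-- `a ↦ a / f ^ k`. -/
def q (k : ℕ) : A →+ Γ(GrMod.tilde 𝒜 𝒜 n, Proj.basicOpen 𝒜 f) :=
  AddMonoidHom.mk' (fun a => GrModX.fracSect 𝒜 𝒜 n _ (GrModX.pow_mem_deg 𝒜 hf k)
      (fun y => GrModX.pow_notMem y.1.isPrime y.2 k) (deg_pd 𝒜 (dg n d k) a)) fun a a' =>
    GrModX.ext_val 𝒜 𝒜 fun y => by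
      refine (LocalizedModule.mk_eq.mpr ⟨1, ?_⟩).trans
        (LocalizedModule.mk_add_mk (S := y.1.asHomogeneousIdeal.toIdeal.primeCompl)
          (m1 := pd 𝒜 (dg n d k) a) (m2 := pd 𝒜 (dg n d k) a')
          (s1 := ⟨f ^ k, GrModX.pow_notMem y.1.isPrime y.2 k⟩)
          (s2 := ⟨f ^ k, GrModX.pow_notMem y.1.isPrime y.2 k⟩)).symm
      simp only [map_add, one_smul, Submonoid.smul_def, Submonoid.coe_mul, smul_eq_mul]
      ring

lemma val_q (k : ℕ) (a : A) (y : Proj.basicOpen 𝒜 f) :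
    GrMod.val (q 𝒜 n hf k a) y =
      LocalizedModule.mk (pd 𝒜 (dg n d k) a) ⟨f ^ k, GrModX.pow_notMem y.1.isPrime y.2 k⟩ := rfl

lemma q_pd (k : ℕ) (a : A) : q 𝒜 n hf k (pd 𝒜 (dg n d k) a) = q 𝒜 n hf k a :=
  GrModX.ext_val 𝒜 𝒜 fun y => by rw [val_q, val_q]; simp only [pd_of_deg 𝒜 (deg_pd 𝒜 (dg n d k) a)]

lemma q_shift (k m : ℕ) (a : A) : q 𝒜 n hf (k + m) (f ^ m * a) = q 𝒜 n hf k a :=
  GrModX.ext_val 𝒜 𝒜 fun y => by
    rw [val_q, val_q]
    refine LocalizedModule.mk_eq.mpr ⟨1, ?_⟩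
    have e : pd 𝒜 (dg n d (k + m)) (f ^ m * a) = f ^ m * pd 𝒜 (dg n d k) a := by
      rw [← pd_mul 𝒜 (GrModX.pow_mem_deg 𝒜 hf m) (dg n d k) a]
      congr 1
      congr 1
      simp only [dg]; push_cast; ring
    simp only [one_smul, Submonoid.smul_def, smul_eq_mul, e, pow_add]
    ring

/-- `a ↦ a / f ^ m` in degree zero. -/
def c (m : ℕ) : A →+ Γ(Proj 𝒜, Proj.basicOpen 𝒜 f) :=
  AddMonoidHom.mk' (fun a => Proj.awayToSection 𝒜 f
      (Away.mk 𝒜 hf m (GradedRing.proj 𝒜 (m • d) a) (Proj16.proj_mem 𝒜 _ a))) fun a a' => by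
    rw [← map_add]
    congr 1
    apply HomogeneousLocalization.val_injective
    simp [Away.val_mk, HomogeneousLocalization.val_add, Localization.add_mk_self]

lemma val_c (m : ℕ) (a : A) (y : Proj.basicOpen 𝒜 f) :
    (GrModX.oval 𝒜 (c 𝒜 hf m a) y).val =
      Localization.mk (GradedRing.proj 𝒜 (m • d) a) ⟨f ^ m, GrModX.pow_notMem y.1.isPrime y.2 m⟩ := rfl

lemma c_smul_q (k m : ℕ) (a' a : A) :
    c 𝒜 hf m a' • q 𝒜 n hf k a = q 𝒜 n hf (k + m) (GradedRing.proj 𝒜 (m • d) a' * a) :=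
  GrModX.ext_val 𝒜 𝒜 fun y => by
    refine (GrMod.coe_smul_val n y.1 _ _).trans ?_
    refine Eq.trans (congrArg₂ (fun (a : GrTwist.Loc 𝒜 y.1) (b : GrMod.LocMod 𝒜 (M := A) y.1) => a • b)
      (val_c 𝒜 hf m a' y) (val_q 𝒜 n hf k a y)) ?_
    rw [LocalizedModule.mk_smul_mk, val_q]
    refine LocalizedModule.mk_eq.mpr ⟨1, ?_⟩
    have e : pd 𝒜 (dg n d (k + m)) (GradedRing.proj 𝒜 (m • d) a' * a) =
        GradedRing.proj 𝒜 (m • d) a' * pd 𝒜 (dg n d k) a := by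
      rw [← pd_mul 𝒜 (Proj16.proj_mem 𝒜 (m • d) a') (dg n d k) a]
      congr 1
      congr 1
      simp only [dg, smul_eq_mul]; push_cast; ring
    rw [e]
    simp only [one_smul, Submonoid.smul_def, Submonoid.coe_mul, smul_eq_mul, pow_add]
    ring

/-- The scalars on a basic open. -/
def rho (f : A) : R →+* Γ(Proj 𝒜, Proj.basicOpen 𝒜 f) :=
  (Proj.awayToSection 𝒜 f).hom.comp ((fromZeroRingHom 𝒜 (Submonoid.powers f)).comp (algebraMap R (𝒜 0)))

lemma val_rho (r : R) (y : Proj.basicOpen 𝒜 f) :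
    (GrModX.oval 𝒜 (rho 𝒜 f r) y).val = algebraMap A (GrTwist.Loc 𝒜 y.1) (algebraMap R A r) := by
  rw [← Localization.mk_one_eq_algebraMap]
  rfl

lemma c_smul (m : ℕ) (r : R) (a : A) : c 𝒜 hf m (r • a) = rho 𝒜 f r * c 𝒜 hf m a :=
  Eg2Gamma.oext 𝒜 fun y => by
    rw [val_c, Eg2Gamma.oval_mul, val_rho, val_c, ← Localization.mk_one_eq_algebraMap, Localization.mk_mul,
      one_mul, proj_smul, Algebra.smul_def]

lemma q_smul (k : ℕ) (r : R) (a : A) : q 𝒜 n hf k (r • a) = rho 𝒜 f r • q 𝒜 n hf k a :=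
  GrModX.ext_val 𝒜 𝒜 fun y => by
    refine Eq.trans ?_ (GrMod.coe_smul_val n y.1 _ _).symm
    refine Eq.trans ?_ (congrArg₂ (fun (a : GrTwist.Loc 𝒜 y.1) (b : GrMod.LocMod 𝒜 (M := A) y.1) => a • b)
      (val_rho 𝒜 r y) (val_q 𝒜 n hf k a y)).symm
    rw [val_q, algebraMap_smul, LocalizedModule.smul'_mk, pd_smul, smul_eq_mul, ← Algebra.smul_def]

end graded

variable {R R' A B : Type u} [CommRing R'] [CommRing R] [Algebra R' R]
  [CommRing B] [Algebra R' B] {ℬ : ℕ → Submodule R' B} [GradedAlgebra ℬ]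
  [CommRing A] [Algebra R A] [Algebra R' A] [IsScalarTower R' R A] {𝒜 : ℕ → Submodule R A} [GradedAlgebra 𝒜]
  [Algebra B A] [IsScalarTower R' B A] [Algebra.IsPushout R' R B A]
  (φ : ℬ →+*ᵍ 𝒜) (hφA : ∀ b : B, φ b = algebraMap B A b) (hφ : 𝒜₊ ≤ (ℬ₊).map φ) (n : ℤ)

lemma pd_map (z : ℤ) (b : B) : pd 𝒜 z (φ b) = φ (pd ℬ z b) := by
  unfold pd
  split_ifs
  · exact (Proj16.proj_map_commutes φ _ b).symm
  · exact (map_zero φ).symm

lemma oval_app {U : (Proj ℬ).Opens} (r : Γ(Proj ℬ, U)) (y : (Proj.map φ hφ ⁻¹ᵁ U : (Proj 𝒜).Opens)) :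
    (GrModX.oval 𝒜 ((Proj.map φ hφ).app U r) y).val =
      GrTwist.locMap φ hφ y.1 (GrModX.oval ℬ r ⟨ProjectiveSpectrum.comap φ hφ y.1, y.2⟩).val :=
  HomogeneousLocalization.val_localRingHom (x := GrModX.oval ℬ r ⟨ProjectiveSpectrum.comap φ hφ y.1, y.2⟩)

variable {f : B} {d : ℕ} (hf : f ∈ ℬ d)

include hφA in
lemma app_rho (r' : R') :
    (Proj.map φ hφ).app (Proj.basicOpen ℬ f) (rho ℬ f r') =
      (show Γ(Proj 𝒜, Proj.map φ hφ ⁻¹ᵁ Proj.basicOpen ℬ f) from rho 𝒜 (φ f) (algebraMap R' R r')) :=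
  Eg2Gamma.oext 𝒜 fun y => by
    rw [oval_app, val_rho, ← Localization.mk_one_eq_algebraMap, GrTwist.locMap_mk]
    refine Eq.trans ?_ (val_rho (f := φ f) 𝒜 (algebraMap R' R r') y).symm
    rw [← Localization.mk_one_eq_algebraMap, ← IsScalarTower.algebraMap_apply, IsScalarTower.algebraMap_apply R' B A,
      ← hφA]
    congr 1
    exact Subtype.ext (map_one φ)

lemma app_c (m : ℕ) (b : B) :
    (Proj.map φ hφ).app (Proj.basicOpen ℬ f) (c ℬ hf m b) =
      (show Γ(Proj 𝒜, Proj.map φ hφ ⁻¹ᵁ Proj.basicOpen ℬ f) from c 𝒜 (φ.map_mem hf) m (φ b)) :=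
  Eg2Gamma.oext 𝒜 fun y => by
    rw [oval_app, val_c, GrTwist.locMap_mk]
    refine Eq.trans ?_ (val_c 𝒜 (φ.map_mem hf) m (φ b) y).symm
    simp only [Proj16.proj_map_commutes, map_pow]
    rfl

set_option maxHeartbeats 1600000 in
include hφA in
theorem isIso_adjunct :
    IsIso (((Scheme.Modules.pullbackPushforwardAdjunction (Proj.map φ hφ)).homEquiv _ _).symm
      (GrMod.comap φ hφ (EgaQ.TwistGlue.selfMap φ) (fun i m (hm : m ∈ ℬ i) => φ.map_mem hm) n)) := by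
  let p := Proj.map φ hφ
  let N := (Scheme.Modules.pullback p).obj (GrMod.tilde ℬ ℬ n)
  let θ : N ⟶ GrMod.tilde 𝒜 𝒜 n := ((Scheme.Modules.pullbackPushforwardAdjunction p).homEquiv _ _).symm
    (GrMod.comap φ hφ (EgaQ.TwistGlue.selfMap φ) (fun i m (hm : m ∈ ℬ i) => φ.map_mem hm) n)
  change IsIso θ
  let I := { x : B // ∃ d, 0 < d ∧ x ∈ ℬ d }
  refine Eg2Gamma.isIso_of_bijective_cover (QCoh.isQCoh_pullback p (GrModX.isQCoh_tilde ℬ ℬ n))
    (GrModX.isQCoh_tilde 𝒜 𝒜 n) θ (fun x : I => p ⁻¹ᵁ Proj.basicOpen ℬ x.1) (fun x => ?_) (fun y => ?_) ?_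
  · obtain ⟨d, hd, hx⟩ := x.2
    exact Proj.isAffineOpen_basicOpen 𝒜 (φ x.1) (φ.map_mem hx) hd
  · obtain ⟨d, t, hd, ht, htx⟩ := Proj16.exists_homogeneous_notMem ℬ (ProjectiveSpectrum.comap φ hφ y).not_irrelevant_le
    exact ⟨⟨t, d, hd, ht⟩, htx⟩
  rintro ⟨f, d, hd, hf⟩
  let W : (Proj 𝒜).Opens := Proj.basicOpen 𝒜 (φ f)
  have hf' : φ f ∈ 𝒜 d := φ.map_mem hf
  let η : ∀ U : (Proj ℬ).Opens, Γ(GrMod.tilde ℬ ℬ n, U) →+ Γ(N, p ⁻¹ᵁ U) := fun U =>
    (((Scheme.Modules.pullbackPushforwardAdjunction p).unit.app (GrMod.tilde ℬ ℬ n)).app U).hom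
  have ηsmul : ∀ (r : Γ(Proj ℬ, Proj.basicOpen ℬ f)) s, η _ (r • s) = p.app _ r • η _ s := fun r s =>
    Scheme.Modules.Hom.app_smul ((Scheme.Modules.pullbackPushforwardAdjunction p).unit.app (GrMod.tilde ℬ ℬ n)) r s
  have hθη : ∀ (U : (Proj ℬ).Opens) (s : Γ(GrMod.tilde ℬ ℬ n, U)), θ.app (p ⁻¹ᵁ U) (η U s) =
      (GrMod.comap φ hφ (EgaQ.TwistGlue.selfMap φ) (fun i m (hm : m ∈ ℬ i) => φ.map_mem hm) n).app U s := fun U s => by
    have h := ((Scheme.Modules.pullbackPushforwardAdjunction p).homEquiv_unit (f := θ)).symm.trans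
      (Equiv.apply_symm_apply _ _)
    exact congr(($h).app U s)
  have hΦex : ∀ k : ℕ, ∃ Φ : A →+ Γ(N, W), (∀ b, Φ (algebraMap B A b) = η _ (q ℬ n hf k b)) ∧
      ∀ (r : R) (a : A), Φ (r • a) = rho 𝒜 (φ f) r • Φ a := fun k =>
    exists_ext (R' := R') (G := Γ(N, W)) (rho 𝒜 (φ f))
      (show B →+ Γ(N, W) from (η (Proj.basicOpen ℬ f)).comp (q ℬ n hf k)) fun r' b => by
      show η _ (q ℬ n hf k (r' • b)) = _
      rw [q_smul, ηsmul, app_rho φ hφA hφ]
      rfl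
  choose Φ hΦb hΦr using hΦex
  have hθΦ : ∀ k a, θ.app W (Φ k a) = q 𝒜 n hf' k a := fun k a => by
    refine induction_on (R := R) (R' := R') (B := B) a (by simp only [map_zero, mul_zero, zero_mul, smul_zero, zero_smul]) (fun b => ?_) (fun r a h => ?_) (fun a a' h h' => ?_)
    · rw [hΦb, ← hφA]
      refine Eq.trans (hθη (Proj.basicOpen ℬ f) (q ℬ n hf k b)) ?_
      refine GrModX.ext_val 𝒜 𝒜 fun y => ?_
      refine (GrMod.comap_app_val φ hφ (EgaQ.TwistGlue.selfMap φ) (fun i m (hm : m ∈ ℬ i) => φ.map_mem hm) n _ _ y).trans ?_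
      refine (congrArg _ (val_q ℬ n hf k b ⟨_, y.2⟩)).trans ?_
      rw [GrMod.locModMap_mk, val_q, pd_map φ]
      simp only [EgaQ.TwistGlue.selfMap_apply, map_pow]
    · rw [hΦr, Scheme.Modules.Hom.app_smul, h, q_smul]
    · rw [map_add, map_add, map_add, h, h']
  have hshift : ∀ k m a, Φ (k + m) (φ f ^ m * a) = Φ k a := fun k m a => by
    refine induction_on (R := R) (R' := R') (B := B) a (by simp only [map_zero, mul_zero, zero_mul, smul_zero, zero_smul]) (fun b => ?_) (fun r a h => ?_) (fun a a' h h' => ?_)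
    · rw [← hφA, ← map_pow, ← map_mul, hφA, hφA, hΦb, hΦb, q_shift]
    · rw [mul_smul_comm, hΦr, hΦr, h]
    · rw [mul_add, map_add, map_add, h, h']
  have hpd : ∀ k a, Φ k (pd 𝒜 (dg n d k) a) = Φ k a := fun k a => by
    refine induction_on (R := R) (R' := R') (B := B) a (by simp only [map_zero, mul_zero, zero_mul, smul_zero, zero_smul]) (fun b => ?_) (fun r a h => ?_) (fun a a' h h' => ?_)
    · rw [← hφA, pd_map φ, hφA, hφA, hΦb, hΦb, q_pd]
    · rw [pd_smul, hΦr, hΦr, h]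
    · rw [map_add, map_add, map_add, h, h']
  have hmul : ∀ k m a' a, c 𝒜 hf' m a' • Φ k a = Φ (k + m) (GradedRing.proj 𝒜 (m • d) a' * a) := by
    intro k m a' a
    refine induction_on (R := R) (R' := R') (B := B) a' (by simp only [map_zero, mul_zero, zero_mul, smul_zero, zero_smul]) (fun b' => ?_) (fun r x h => ?_)
      (fun x x' h h' => ?_)
    · refine induction_on (R := R) (R' := R') (B := B) a (by simp only [map_zero, mul_zero, zero_mul, smul_zero, zero_smul]) (fun b => ?_) (fun r x h => ?_)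
        (fun x x' h h' => ?_)
      · rw [← hφA b', hΦb, ← Proj16.proj_map_commutes φ, hφA (GradedRing.proj ℬ (m • d) b'), ← map_mul, hΦb, ← c_smul_q, ηsmul, app_c φ hφ hf]
        rfl
      · rw [hΦr, smul_comm, h, mul_smul_comm, hΦr]
      · rw [map_add, smul_add, h, h', mul_add, map_add]
    · rw [c_smul, mul_smul, h]
      rw [proj_smul, smul_mul_assoc, hΦr]
    · rw [map_add, add_smul, h, h', map_add, add_mul, map_add]
  have hall : ∀ z : Γ(N, W), ∃ k a, Φ k a = z := by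
    let V : (Proj ℬ).Opens := Proj.basicOpen ℬ f
    let ψ := p.appLE V W le_rfl
    letI : Algebra Γ(Proj ℬ, V) Γ(Proj 𝒜, W) := ψ.hom.toAlgebra
    letI : Module Γ(Proj ℬ, V) Γ(N, W) := Module.compHom _ ψ.hom
    haveI : IsScalarTower Γ(Proj ℬ, V) Γ(Proj 𝒜, W) Γ(N, W) :=
      IsScalarTower.of_algebraMap_smul fun _ _ => rfl
    let l : Γ(GrMod.tilde ℬ ℬ n, V) →ₗ[Γ(Proj ℬ, V)] Γ(N, W) :=
      { toFun := QCoh.pullSec p _ le_rfl
        map_add' := QCoh.pullSec_add p _ le_rfl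
        map_smul' := QCoh.pullSec_smul p _ le_rfl }
    have hbc := QCoh.isBaseChange_pullback (Proj.isAffineOpen_basicOpen ℬ f hf hd) p
      (Proj.isAffineOpen_basicOpen 𝒜 (φ f) hf' hd) (GrModX.isQCoh_tilde ℬ ℬ n) le_rfl (fun _ => rfl) l
      (fun _ => rfl)
    intro z
    refine hbc.inductionOn z (fun z => ∃ k a, Φ k a = z) ⟨0, 0, map_zero _⟩ (fun s => ?_) (fun r x hx => ?_) (fun x x' hx hx' => ?_)
    · obtain ⟨k, b, hb, hval⟩ := GrModX.exists_frac ℬ ℬ hd hf n s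
      refine ⟨k, algebraMap B A b, ?_⟩
      have hs : s = q ℬ n hf k b := GrModX.ext_val ℬ ℬ fun y => by
        rw [hval y, val_q, pd_of_deg ℬ (show GrModX.Deg ℬ (dg n d k) b by simpa [dg] using hb)]
      rw [hΦb, hs]
      exact ((QCoh.map_id' (M := N) _ _) :).symm
    · obtain ⟨k, a, rfl⟩ := hx
      obtain ⟨x, rfl⟩ := (ConcreteCategory.bijective_of_isIso (Proj.basicOpenIsoAway 𝒜 (φ f) hf' hd).hom).2 r
      obtain ⟨m, a', ha', rfl⟩ := x.mk_surjective 𝒜 hf'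
      refine ⟨k + m, a' * a, ?_⟩
      rw [Proj.basicOpenIsoAway_hom, show (Proj.awayToSection 𝒜 (φ f)) (Away.mk 𝒜 hf' m a' ha') =
        c 𝒜 hf' m a' from Eg2Gamma.oext 𝒜 fun y => by
          rw [val_c, GrModX.oval_awayToSection]; simp only [Proj16.proj_of_mem 𝒜 ha'],
        hmul, Proj16.proj_of_mem 𝒜 ha']
    · obtain ⟨k, a, rfl⟩ := hx
      obtain ⟨m, a', rfl⟩ := hx'
      refine ⟨k + m, φ f ^ m * a + φ f ^ k * a', ?_⟩
      rw [map_add, hshift, add_comm k m, hshift]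
  show Function.Bijective (θ.app W)
  refine ⟨(injective_iff_map_eq_zero _).2 fun z hz => ?_, fun t => ?_⟩
  · obtain ⟨k, a, rfl⟩ := hall z
    rw [hθΦ] at hz
    obtain ⟨m, hm⟩ := GrModX.exists_pow_smul_eq_zero_of_mk (ℳ := 𝒜) 𝒜 hd hf' (deg_pd 𝒜 (dg n d k) a) fun y hy =>
      ⟨_, by
        have := (val_q 𝒜 n hf' k a ⟨y, hy⟩).symm.trans (congrArg (fun s => GrMod.val s ⟨y, hy⟩) hz)
        exact this⟩
    rw [← hpd, ← hshift k m, ← smul_eq_mul, hm, map_zero]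
  · obtain ⟨k, a, ha, hval⟩ := GrModX.exists_frac 𝒜 𝒜 hd hf' n t
    refine ⟨Φ k a, ?_⟩
    rw [hθΦ]
    exact GrModX.ext_val 𝒜 𝒜 fun y => by
      rw [val_q, hval y, pd_of_deg 𝒜 (show GrModX.Deg 𝒜 (dg n d k) a by simpa [dg] using ha)]

end Groth.Agent.Eg2Twist.BC
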