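import Groth.Agent.Eg2Twist.Frames
import Groth.Agent.Eg2Cone.Basic
import Groth.Agent.Eg2Gamma.Frac
import Groth.Agent.TwistX.Global
import Groth.Agent.InvX.Pullback
import Groth.Agent.ProjPt.Sections

/-!
# Inverse image of `O(n)` along the morphism defined by a graded homomorphism
-/

noncomputable section

universe u

open CategoryTheory AlgebraicGeometry TopologicalSpace Opposite HomogeneousLocalization
open Groth.Agent.AModX

set_option backward.isDefEq.respectTransparency false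
set_option backward.isDefEq.respectTransparency.types false

namespace Groth.Agent.Eg2Twist

variable {R A : Type u} [CommRing R] [CommRing A] [Algebra R A] {𝒜 : ℕ → Submodule R A} [GradedAlgebra 𝒜]

/-- The `n`-th power of an element of degree one as a frame of `O(n)`. -/
def genFrac {g : A} (hg : g ∈ 𝒜 1) (n : ℤ) : TwistX.UnitFrac (𝒜 := 𝒜) n (Proj.basicOpen 𝒜 g) where
  i := n.toNat
  j := (-n).toNat
  num := g ^ n.toNat
  den := g ^ (-n).toNat
  num_mem := by simpa using SetLike.pow_mem_graded n.toNat hg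
  den_mem := by simpa using SetLike.pow_mem_graded (-n).toNat hg
  deg := by omega
  num_ne x := TwistX.notMem_pow x.2 _
  den_ne x := TwistX.notMem_pow x.2 _

/-- `g ^ n` as a section. -/
def genSec {g : A} (hg : g ∈ 𝒜 1) (n : ℤ) : Γ(Twist.twist 𝒜 n, Proj.basicOpen 𝒜 g) :=
  TwistX.fracSect (genFrac hg n)

lemma isFrame_genSec {g : A} (hg : g ∈ 𝒜 1) (n : ℤ) : InvX.IsFrame (genSec (𝒜 := 𝒜) hg n) :=
  TwistX.isFrame_fracSect (genFrac hg n)

/-- The transition functions of these frames. -/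
lemma res_genSec {a b : A} (ha : a ∈ 𝒜 1) (hb : b ∈ 𝒜 1) (n : ℤ) {W : (Proj 𝒜).Opens}
    (hWa : W ≤ Proj.basicOpen 𝒜 a) (hWb : W ≤ Proj.basicOpen 𝒜 b) :
    res (Twist.twist 𝒜 n) hWb (genSec hb n) =
      (Eg2Gamma.frac 𝒜 ha hWa hb ^ n.toNat * Eg2Gamma.frac 𝒜 hb hWb ha ^ (-n).toNat) •
        res (Twist.twist 𝒜 n) hWa (genSec ha n) := by
  refine Subtype.ext (funext fun y => Subtype.ext ?_)
  refine Eq.trans ?_ (Twist.coe_smul_val n y.1 _ _).symm
  show (Localization.mk (b ^ n.toNat) _ : Twist.Loc 𝒜 y.1) =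
    (GrModX.oval 𝒜 (Eg2Gamma.frac 𝒜 ha hWa hb ^ n.toNat * Eg2Gamma.frac 𝒜 hb hWb ha ^ (-n).toNat) y).val *
      Localization.mk (a ^ n.toNat) _
  rw [Eg2Gamma.oval_mul, GrModX.oval_pow, GrModX.oval_pow, HomogeneousLocalization.val_pow,
    HomogeneousLocalization.val_pow, Eg2Gamma.val_frac, Eg2Gamma.val_frac, Localization.mk_pow, Localization.mk_pow,
    Localization.mk_mul, Localization.mk_mul, Localization.mk_eq_mk_iff, Localization.r_iff_exists]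
  exact ⟨1, by simp [genFrac]; ring⟩

variable {B : Type u} [CommRing B] [Algebra R B] {ℬ : ℕ → Submodule R B} [GradedAlgebra ℬ] (φ : 𝒜 →+*ᵍ ℬ)
  (p : (PCone.dom φ : Scheme.{u}) ⟶ Proj 𝒜)
  (hp : ∀ (d : ℕ) (f : A) (hd : 0 < d) (hf : f ∈ 𝒜 d),
    PCone.chart φ hf hd ≫ p = Spec.map (CommRingCat.ofHom (Away.map φ f)) ≫ Proj.awayι 𝒜 f hf hd)

instance isOpenImmersion_chart {d : ℕ} {f : A} (hf : f ∈ 𝒜 d) (hd : 0 < d) :
    IsOpenImmersion (PCone.chart φ hf hd) := by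
  have : IsOpenImmersion (PCone.chart φ hf hd ≫ (PCone.dom φ).ι) := by
    rw [PCone.chart, IsOpenImmersion.lift_fac]; infer_instance
  exact IsOpenImmersion.of_comp _ (PCone.dom φ).ι

lemma opensRange_chart {d : ℕ} {f : A} (hf : f ∈ 𝒜 d) (hd : 0 < d) :
    (PCone.chart φ hf hd).opensRange = (PCone.dom φ).ι ⁻¹ᵁ Proj.basicOpen ℬ (φ f) := by
  rw [← (PCone.dom φ).ι.preimage_image_eq (PCone.chart φ hf hd).opensRange, ← Scheme.Hom.opensRange_comp]
  congr 1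
  simp only [PCone.chart, IsOpenImmersion.lift_fac, Proj.opensRange_awayι]

include hp in
lemma mem_preimage_of_mem {d : ℕ} {f : A} (hf : f ∈ 𝒜 d) (hd : 0 < d) {z : (PCone.dom φ : Scheme.{u})}
    (hz : (PCone.dom φ).ι z ∈ Proj.basicOpen ℬ (φ f)) : p z ∈ Proj.basicOpen 𝒜 f := by
  obtain ⟨w, rfl⟩ : z ∈ Set.range (PCone.chart φ hf hd) := by
    rw [← Scheme.Hom.coe_opensRange, opensRange_chart]; exact hz
  rw [← Scheme.Hom.comp_apply, hp d f hd hf, ← Proj.opensRange_awayι 𝒜 f hf hd]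
  exact ⟨_, rfl⟩

include hp in
lemma pull_frac {g a : A} (hg : g ∈ 𝒜 1) {i : ℕ} (ha : a ∈ 𝒜 i) {W : (PCone.dom φ : Scheme.{u}).Opens}
    (hW : W ≤ p ⁻¹ᵁ Proj.basicOpen 𝒜 g) (hW' : W ≤ (PCone.dom φ).ι ⁻¹ᵁ Proj.basicOpen ℬ (φ g)) :
    p.appLE _ W hW (Eg2Gamma.frac 𝒜 hg le_rfl ha) =
      (PCone.dom φ).ι.appLE _ W hW' (Eg2Gamma.frac ℬ (φ.map_mem hg) le_rfl (φ.map_mem ha)) := by
  have hW₀ : (PCone.dom φ).ι ⁻¹ᵁ Proj.basicOpen ℬ (φ g) ≤ p ⁻¹ᵁ Proj.basicOpen 𝒜 g := fun z hz =>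
    mem_preimage_of_mem φ p hp hg one_pos hz
  suffices h : p.appLE (Proj.basicOpen 𝒜 g) _ hW₀ (Eg2Gamma.frac 𝒜 hg le_rfl ha) =
      (PCone.dom φ).ι.appLE _ _ le_rfl (Eg2Gamma.frac ℬ (φ.map_mem hg) le_rfl (φ.map_mem ha)) by
    have := congrArg ((PCone.dom φ : Scheme.{u}).presheaf.map (homOfLE hW').op) h
    refine Eq.trans ?_ (this.trans (ConcreteCategory.congr_hom ((PCone.dom φ).ι.appLE_map le_rfl (homOfLE hW').op) _))
    exact (ConcreteCategory.congr_hom (p.appLE_map hW₀ (homOfLE hW').op) _).symm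
  let c := PCone.chart φ hg one_pos
  have hc : (⊤ : (Spec _).Opens) ≤ c ⁻¹ᵁ ((PCone.dom φ).ι ⁻¹ᵁ Proj.basicOpen ℬ (φ g)) := by
    rw [← opensRange_chart φ hg one_pos, Scheme.Hom.preimage_opensRange]
  have hbij : Function.Bijective (c.appLE _ ⊤ hc) := by
    have : IsIso (c.appLE _ ⊤ hc) := by
      rw [Scheme.Hom.appLE]
      have := c.isIso_app _ (le_of_eq (opensRange_chart φ hg one_pos).symm)
      have : IsIso (homOfLE hc) :=
        (Subsingleton.elim (eqToHom (by rw [eq_top_iff.2 hc])) (homOfLE hc)) ▸ inferInstance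
      infer_instance
    exact ConcreteCategory.bijective_of_isIso _
  apply hbij.1
  have hι : c ≫ (PCone.dom φ).ι = Proj.awayι ℬ (φ g) (φ.map_mem hg) one_pos := IsOpenImmersion.lift_fac _ _ _
  have hi : a ∈ 𝒜 (i • 1) := by simpa using ha
  have hb : φ a ∈ ℬ (i • 1) := φ.map_mem hi
  let x : Away 𝒜 g := Away.mk 𝒜 hg i a hi
  have h1 : c.appLE _ ⊤ hc (p.appLE _ _ hW₀ ((Proj.awayToSection 𝒜 g).hom x)) =
      (Scheme.ΓSpecIso (CommRingCat.of (Away ℬ (φ g)))).inv (Away.map φ g x) := by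
    have e0 : (⊤ : (Spec (CommRingCat.of (Away 𝒜 g))).Opens) ≤
        Proj.awayι 𝒜 g hg one_pos ⁻¹ᵁ Proj.basicOpen 𝒜 g := by
      rw [← Proj.opensRange_awayι 𝒜 g hg one_pos, Scheme.Hom.preimage_opensRange]
    have key : ∀ (q : Spec (CommRingCat.of (Away ℬ (φ g))) ⟶ Proj 𝒜)
        (_ : q = Spec.map (CommRingCat.ofHom (Away.map φ g)) ≫ Proj.awayι 𝒜 g hg one_pos)
        (e : ⊤ ≤ q ⁻¹ᵁ Proj.basicOpen 𝒜 g), Proj.awayToSection 𝒜 g ≫ q.appLE _ ⊤ e =
          CommRingCat.ofHom (Away.map φ g) ≫ (Scheme.ΓSpecIso (CommRingCat.of (Away ℬ (φ g)))).inv := by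
      rintro q rfl e
      rw [← Scheme.Hom.appLE_comp_appLE _ _ (Proj.basicOpen 𝒜 g) ⊤ ⊤ e0 le_top, ← Category.assoc,
        ProjPt.awayι_appLE, Scheme.ΓSpecIso_inv_naturality]
      exact congrArg (_ ≫ ·) (Scheme.Hom.app_eq_appLE _ (U := ⊤)).symm
    have h := key (c ≫ p) (hp 1 g one_pos hg) (hc.trans (c.preimage_mono hW₀))
    rw [← Scheme.Hom.appLE_comp_appLE c p _ _ ⊤ hW₀ hc] at h
    exact ConcreteCategory.congr_hom h x
  have h2 : c.appLE _ ⊤ hc ((PCone.dom φ).ι.appLE _ _ le_rfl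
      ((Proj.awayToSection ℬ (φ g)).hom (Away.map φ g x))) =
      (Scheme.ΓSpecIso (CommRingCat.of (Away ℬ (φ g)))).inv (Away.map φ g x) := by
    have key : ∀ (q : Spec (CommRingCat.of (Away ℬ (φ g))) ⟶ Proj ℬ)
        (_ : q = Proj.awayι ℬ (φ g) (φ.map_mem hg) one_pos)
        (e : ⊤ ≤ q ⁻¹ᵁ Proj.basicOpen ℬ (φ g)), Proj.awayToSection ℬ (φ g) ≫ q.appLE _ ⊤ e =
          (Scheme.ΓSpecIso (CommRingCat.of (Away ℬ (φ g)))).inv := by
      rintro q rfl e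
      exact ProjPt.awayι_appLE ℬ _ _ _
    have h := key (c ≫ (PCone.dom φ).ι) hι hc
    rw [← Scheme.Hom.appLE_comp_appLE c (PCone.dom φ).ι _ _ ⊤ le_rfl hc] at h
    exact ConcreteCategory.congr_hom h (Away.map φ g x)
  simp only [Eg2Gamma.frac, AModX.resR_self]
  refine h1.trans (h2.symm.trans (congrArg (fun z => c.appLE _ ⊤ hc ((PCone.dom φ).ι.appLE _ _ le_rfl
    ((Proj.awayToSection ℬ (φ g)).hom z))) ?_))
  exact Away.map_mk φ g hg i a hi

omit [GradedAlgebra ℬ] in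
lemma restrict_smul {X : Scheme.{u}} (D : X.Opens) (M : X.Modules) {W : D.toScheme.Opens} (r : Γ(D.toScheme, W))
    (m : Γ(M.restrict D.ι, W)) :
    r • m = (show Γ(M.restrict D.ι, W) from
      (show Γ(X, D.ι ''ᵁ W) from r) • (show Γ(M, D.ι ''ᵁ W) from m)) := by
  refine Eq.trans (b := (show Γ(M.restrict D.ι, W) from
    (D.ι.appIso W).inv.hom r • (show Γ(M, D.ι ''ᵁ W) from m))) rfl ?_
  rw [Scheme.Opens.ι_appIso]
  rfl

/-- A section restricted to an open subscheme. -/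
def restrictSec {X : Scheme.{u}} (D : X.Opens) {M : X.Modules} {U : X.Opens} (e : Γ(M, U)) :
    Γ(M.restrict D.ι, D.ι ⁻¹ᵁ U) :=
  res M (D.ι.image_preimage_le U) e

lemma res_restrictSec {X : Scheme.{u}} (D : X.Opens) {M : X.Modules} {U : X.Opens} (e : Γ(M, U))
    {W : D.toScheme.Opens} (h : W ≤ D.ι ⁻¹ᵁ U) :
    res (M.restrict D.ι) h (restrictSec D e) =
      res M ((D.ι.image_mono h).trans (D.ι.image_preimage_le U)) e :=
  res_res (M := M) (D.ι.image_preimage_le U) (D.ι.image_mono h) e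

lemma isFrame_restrictSec {X : Scheme.{u}} (D : X.Opens) {M : X.Modules} {U : X.Opens} {e : Γ(M, U)}
    (he : InvX.IsFrame e) : InvX.IsFrame (restrictSec D e) := fun V hV => by
  have h : (fun r : Γ(D.toScheme, V) => r • res (M.restrict D.ι) hV (restrictSec D e)) =
      fun r => (show Γ(X, D.ι ''ᵁ V) from r) •
        res M ((D.ι.image_mono hV).trans (D.ι.image_preimage_le U)) e :=
    funext fun r => by rw [res_restrictSec, restrict_smul]
  exact h ▸ he (D.ι ''ᵁ V) _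

set_option maxHeartbeats 1000000 in
include hp in
theorem nonempty_pullback_twist_iso
    (hgen : (HomogeneousIdeal.irrelevant 𝒜).toIdeal = Ideal.span (𝒜 1 : Set A)) (n : ℤ) :
    Nonempty ((Scheme.Modules.pullback p).obj (Twist.twist 𝒜 n) ≅
      (Twist.twist ℬ n).restrict (PCone.dom φ).ι) := by
  let D := PCone.dom φ
  let U : 𝒜 1 → (D : Scheme.{u}).Opens := fun g =>
    p ⁻¹ᵁ Proj.basicOpen 𝒜 (g : A) ⊓ D.ι ⁻¹ᵁ Proj.basicOpen ℬ (φ (g : A))
  have hcov : ∀ z, ∃ g, z ∈ U g := by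
    intro z
    obtain ⟨⟨f, d, hd, hf⟩, hz⟩ := Opens.mem_iSup.1 z.2
    by_contra hh
    push Not at hh
    have : Ideal.span (𝒜 1 : Set A) ≤ z.1.asHomogeneousIdeal.toIdeal.comap φ := Ideal.span_le.2 fun g hg =>
      not_not.1 fun hgz => hh ⟨g, hg⟩ ⟨mem_preimage_of_mem φ p hp hg one_pos hgz, hgz⟩
    rw [← hgen] at this
    exact hz (this (HomogeneousIdeal.mem_irrelevant_of_mem _ hd hf))
  refine nonempty_iso_of_frames U hcov
    (fun g => res _ inf_le_left (InvX.pullElt p (genSec g.2 n)))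
    (fun g => res _ inf_le_right (restrictSec D (genSec (φ.map_mem g.2) n)))
    (fun g => (InvX.isFrame_pullElt p (isFrame_genSec g.2 n)).res _)
    (fun g => (isFrame_restrictSec D (isFrame_genSec (φ.map_mem g.2) n)).res _) ?_
  intro a b W ha hb c hc
  erw [res_res, res_res] at hc
  refine Eq.trans (res_res _ _ _) (Eq.trans ?_ (congrArg (c • ·) (res_res _ _ _)).symm)
  let V : (Proj 𝒜).Opens := Proj.basicOpen 𝒜 (a : A) ⊓ Proj.basicOpen 𝒜 (b : A)
  let M := (Scheme.Modules.pullback p).obj (Twist.twist 𝒜 n)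
  let η : Twist.twist 𝒜 n ⟶ (Scheme.Modules.pushforward p).obj M :=
    (Scheme.Modules.pullbackPushforwardAdjunction p).unit.app (Twist.twist 𝒜 n)
  let Fa : Γ(Proj 𝒜, V) := Eg2Gamma.frac 𝒜 a.2 inf_le_left b.2
  let Fb : Γ(Proj 𝒜, V) := Eg2Gamma.frac 𝒜 b.2 inf_le_right a.2
  have h1 := congrArg (η.app V) (res_genSec a.2 b.2 n (inf_le_left : V ≤ _) inf_le_right)
  rw [Scheme.Modules.Hom.app_smul, app_res, app_res] at h1
  have h2 : res M (p.preimage_mono (inf_le_right : V ≤ _)) (InvX.pullElt p (genSec b.2 n)) =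
      p.app V (Fa ^ n.toNat * Fb ^ (-n).toNat) •
        res M (p.preimage_mono (inf_le_left : V ≤ _)) (InvX.pullElt p (genSec a.2 n)) := h1
  have hW : W ≤ p ⁻¹ᵁ V := fun x hx => ⟨(ha hx).1, (hb hx).1⟩
  have h3 := congrArg (res M hW) h2
  rw [res_smul, res_res, res_res] at h3
  have hc' : c = resR hW (p.app V (Fa ^ n.toNat * Fb ^ (-n).toNat)) :=
    (InvX.isFrame_pullElt p (isFrame_genSec a.2 n)).coord_unique (ha.trans inf_le_left) (hc.symm.trans h3)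
  have hWa : D.ι ''ᵁ W ≤ Proj.basicOpen ℬ (φ (a : A)) :=
    (D.ι.image_mono (ha.trans inf_le_right)).trans (D.ι.image_preimage_le _)
  have hWb : D.ι ''ᵁ W ≤ Proj.basicOpen ℬ (φ (b : A)) :=
    (D.ι.image_mono (hb.trans inf_le_right)).trans (D.ι.image_preimage_le _)
  have hfrac : ∀ (g a' : A) (hg : g ∈ 𝒜 1) (ha' : a' ∈ 𝒜 1) (hV : V ≤ Proj.basicOpen 𝒜 g)
      (hg' : D.ι ''ᵁ W ≤ Proj.basicOpen ℬ (φ g)),
      (show Γ(Proj ℬ, D.ι ''ᵁ W) from resR hW (p.app V (Eg2Gamma.frac 𝒜 hg hV ha'))) =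
        Eg2Gamma.frac ℬ (φ.map_mem hg) hg' (φ.map_mem ha') := by
    intro g a' hg ha' hV hg'
    have hW1 : W ≤ p ⁻¹ᵁ Proj.basicOpen 𝒜 g := hW.trans (p.preimage_mono hV)
    have hW2 : W ≤ D.ι ⁻¹ᵁ Proj.basicOpen ℬ (φ g) := fun z hz => hg' ⟨z, hz, rfl⟩
    have e1 : resR hW (p.app V (Eg2Gamma.frac 𝒜 hg hV ha')) =
        p.appLE _ W hW1 (Eg2Gamma.frac 𝒜 hg le_rfl ha') := by
      rw [← Eg2Gamma.res_frac (𝒜 := 𝒜) hg le_rfl hV ha']
      refine Eq.trans ?_ (ConcreteCategory.congr_hom (Scheme.Hom.map_appLE p hW (homOfLE hV).op) _)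
      rfl
    rw [e1, pull_frac φ p hp hg ha' hW1 hW2, Scheme.Opens.ι_appLE]
    exact Eg2Gamma.res_frac (𝒜 := ℬ) (φ.map_mem hg) le_rfl _ (φ.map_mem ha')
  refine (res_restrictSec D _ _).trans (Eq.trans ?_ (restrict_smul D _ c _).symm)
  erw [res_restrictSec]
  rw [hc']
  refine (res_genSec (φ.map_mem a.2) (φ.map_mem b.2) n hWa hWb).trans ?_
  refine congrArg (fun r : Γ(Proj ℬ, D.ι ''ᵁ W) => r • res (Twist.twist ℬ n) hWa (genSec (φ.map_mem a.2) n)) ?_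
  rw [← hfrac a b a.2 b.2 inf_le_left hWa, ← hfrac b a b.2 a.2 inf_le_right hWb]
  simp only [map_mul, map_pow]
  rfl

end Groth.Agent.Eg2Twist
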