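import Groth.Agent.Eg2Twist.TensorFrame
import Groth.Agent.TwistX.Global
import Groth.Agent.IntTh85.TwistLcm
import Groth.Agent.GrModX.Sections
import Groth.Prelude.Def_GrMod2

/-!
# `M~ ⊗ O(n) ≅ M(n)~`
-/

noncomputable section

universe u

open CategoryTheory CategoryTheory.Limits AlgebraicGeometry TopologicalSpace Opposite

set_option backward.isDefEq.respectTransparency false
set_option backward.isDefEq.respectTransparency.types false

namespace Groth.Agent.Eg2Twist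

variable {R A : Type u} [CommRing R] [CommRing A] [Algebra R A] {𝒜 : ℕ → Submodule R A} [GradedAlgebra 𝒜]
  {M : Type u} [AddCommGroup M] [Module R M] [Module A M] (ℳ : ℕ → Submodule R M)
  [SetLike.GradedSMul 𝒜 ℳ]

variable {ℳ} in
theorem smul_mem_tildeAt {a b c : ℤ} (h : a + b = c) {x : ProjectiveSpectrum 𝒜}
    {t : Twist.Loc 𝒜 x} {q : GrMod.LocMod 𝒜 (M := M) x}
    (ht : t ∈ Twist.twistAt 𝒜 b x) (hq : q ∈ GrMod.tildeAt 𝒜 ℳ a x) :
    t • q ∈ GrMod.tildeAt 𝒜 ℳ c x := by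
  induction ht using Submodule.span_induction with
  | mem t ht =>
    obtain ⟨i', j', p, s', hs', hij', rfl⟩ := ht
    induction hq using Submodule.span_induction with
    | mem q hq =>
      obtain ⟨i, j, m, s, hs, hij, rfl⟩ := hq
      refine Submodule.subset_span ⟨i' + i, j' + j, ⟨p.1 • m.1, SetLike.GradedSMul.smul_mem p.2 m.2⟩,
        ⟨s'.1 * s.1, SetLike.mul_mem_graded s'.2 s.2⟩, TwistX.mul_notMem hs' hs, by push_cast; omega, ?_⟩
      exact LocalizedModule.mk_smul_mk ..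
    | zero => rw [smul_zero]; exact zero_mem _
    | add y z _ _ hy hz => rw [smul_add]; exact add_mem hy hz
    | smul c y _ hy =>
      rw [GrMod.a0_smul_def, smul_comm, ← GrMod.a0_smul_def]
      exact Submodule.smul_mem _ c hy
  | zero => rw [zero_smul]; exact zero_mem _
  | add y z _ _ hy hz => rw [add_smul]; exact add_mem hy hz
  | smul c y _ hy =>
    rw [Algebra.smul_def, HomogeneousLocalization.algebraMap_apply, mul_smul, ← GrMod.a0_smul_def]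
    exact Submodule.smul_mem _ c hy

variable {U : (Proj 𝒜).Opens}

/-- The product of a section of `O(b)` with a section of `M(a)~`. -/
def mulSect {a b c : ℤ} (h : a + b = c) (s : Γ(GrMod.tilde 𝒜 ℳ a, U)) (t : Γ(Twist.twist 𝒜 b, U)) :
    Γ(GrMod.tilde 𝒜 ℳ c, U) :=
  show GrMod.sect (𝒜 := 𝒜) (ℳ := ℳ) c (op U) from
  ⟨fun x => ⟨((t : Twist.sectN (𝒜 := 𝒜) b (op U)).1 x).1 • ((s : GrMod.sect (𝒜 := 𝒜) (ℳ := ℳ) a (op U)).1 x).1,
      smul_mem_tildeAt h ((t : Twist.sectN (𝒜 := 𝒜) b (op U)).1 x).2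
        ((s : GrMod.sect (𝒜 := 𝒜) (ℳ := ℳ) a (op U)).1 x).2⟩, fun x => by
    obtain ⟨V, hxV, iV, i, j, p, q, nq, hij, w⟩ := (t : Twist.sectN (𝒜 := 𝒜) b (op U)).2 x
    obtain ⟨V', hxV', iV', i', j', p', q', nq', hij', w'⟩ := (s : GrMod.sect (𝒜 := 𝒜) (ℳ := ℳ) a (op U)).2 x
    refine ⟨V ⊓ V', ⟨hxV, hxV'⟩, Opens.infLELeft _ _ ≫ iV, i + i', j + j',
      ⟨p.1 • p'.1, SetLike.GradedSMul.smul_mem p.2 p'.2⟩,
      ⟨q.1 * q'.1, SetLike.mul_mem_graded q.2 q'.2⟩,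
      fun y => TwistX.mul_notMem (nq ⟨y.1, y.2.1⟩) (nq' ⟨y.1, y.2.2⟩), ?_, fun y => ?_⟩
    · rcases hij with h1 | h1
      · rcases hij' with h' | h'
        · exact Or.inl (by push_cast; omega)
        · exact Or.inr (show p.1 • p'.1 = 0 by rw [h', smul_zero])
      · exact Or.inr (show p.1 • p'.1 = 0 by rw [h1, zero_smul])
    · show ((t : Twist.sectN (𝒜 := 𝒜) b (op U)).1 (iV ⟨y.1, y.2.1⟩)).1 •
          ((s : GrMod.sect (𝒜 := 𝒜) (ℳ := ℳ) a (op U)).1 (iV' ⟨y.1, y.2.2⟩)).1 = _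
      rw [show ((t : Twist.sectN (𝒜 := 𝒜) b (op U)).1 (iV ⟨y.1, y.2.1⟩)).1 = _ from w ⟨y.1, y.2.1⟩,
        show ((s : GrMod.sect (𝒜 := 𝒜) (ℳ := ℳ) a (op U)).1 (iV' ⟨y.1, y.2.2⟩)).1 = _ from w' ⟨y.1, y.2.2⟩]
      exact LocalizedModule.mk_smul_mk ..⟩

lemma val_mulSect {a b c : ℤ} (h : a + b = c) (s : Γ(GrMod.tilde 𝒜 ℳ a, U)) (t : Γ(Twist.twist 𝒜 b, U)) (x : U) :
    GrMod.val (mulSect ℳ h s t) x = GrTwist.val (n := b) t x • GrMod.val s x := rfl

/-- The pairing `M~ × O(n) ⟶ M(n)~`. -/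
def pairing (n : ℤ) : H23.TensorDesc.Bilin (GrMod.tilde 𝒜 ℳ 0) (Twist.twist 𝒜 n) (GrMod.tilde 𝒜 ℳ n) where
  b U s t := mulSect ℳ (zero_add n) s t
  add_left U m m' t := GrModX.ext_val _ _ fun x => smul_add (GrTwist.val (n := n) t x) (GrMod.val m x) (GrMod.val m' x)
  smul_left U r m t := GrModX.ext_val _ _ fun x => by
    refine Eq.trans ?_ (GrMod.coe_smul_val n x.1 _ _).symm
    refine Eq.trans (congrArg (fun q => GrTwist.val (n := n) t x • q) (GrMod.coe_smul_val 0 x.1 _ _)) ?_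
    exact smul_comm _ _ _
  add_right U m t t' := GrModX.ext_val _ _ fun x => add_smul (GrTwist.val (n := n) t x) (GrTwist.val (n := n) t' x) (GrMod.val m x)
  smul_right U r m t := GrModX.ext_val _ _ fun x => by
    refine Eq.trans ?_ (GrMod.coe_smul_val n x.1 _ _).symm
    refine Eq.trans (congrArg (fun q => q • GrMod.val m x) (Twist.coe_smul_val n x.1 _ _)) ?_
    exact mul_smul _ _ _
  res h m t := rfl

theorem mulSect_frame_bijective {n : ℤ} (φ : TwistX.UnitFrac (𝒜 := 𝒜) n U) {V : (Proj 𝒜).Opens} (hV : V ≤ U) :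
    Function.Bijective fun s : Γ(GrMod.tilde 𝒜 ℳ 0, V) =>
      mulSect ℳ (zero_add n) s (show Γ(Twist.twist 𝒜 n, V) from AModX.res (Twist.twist 𝒜 n) hV (TwistX.fracSect φ)) := by
  let e : Γ(Twist.twist 𝒜 n, V) := AModX.res (Twist.twist 𝒜 n) hV (TwistX.fracSect φ)
  let e' : Γ(Twist.twist 𝒜 (-n), V) := TwistX.fracSect ((IntTh85.TwistLcm.inv φ).res hV)
  have hmul : ∀ x : V, GrTwist.val (n := -n) e' x * GrTwist.val (n := n) e x = 1 := fun x =>
    IntTh85.TwistLcm.frac_mul_inv φ ⟨x.1, hV x.2⟩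
  refine Function.bijective_iff_has_inverse.2 ⟨fun r => mulSect ℳ (add_neg_cancel n) r e', fun s => ?_, fun r => ?_⟩
  · refine GrModX.ext_val _ _ fun x => ?_
    show GrTwist.val (n := -n) e' x • (GrTwist.val (n := n) e x • GrMod.val s x) = GrMod.val s x
    rw [smul_smul, hmul, one_smul]
  · refine GrModX.ext_val _ _ fun x => ?_
    show GrTwist.val (n := n) e x • (GrTwist.val (n := -n) e' x • GrMod.val r x) = GrMod.val r x
    rw [smul_smul, mul_comm, hmul, one_smul]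

theorem nonempty_iso_shift (hgen : (HomogeneousIdeal.irrelevant 𝒜).toIdeal = Ideal.span (𝒜 1 : Set A)) (n : ℤ) :
    Nonempty (GrMod.tilde 𝒜 ℳ n ≅ CohB1.tensorMod (GrMod.tilde 𝒜 ℳ 0) (Twist.twist 𝒜 n)) := by
  have hcov : ∀ x : Proj 𝒜, ∃ g : 𝒜 1, x ∈ Proj.basicOpen 𝒜 (g : A) := fun x => by
    by_contra hh
    push Not at hh
    refine x.not_irrelevant_le ?_
    show (HomogeneousIdeal.irrelevant 𝒜).toIdeal ≤ x.asHomogeneousIdeal.toIdeal
    rw [hgen, Ideal.span_le]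
    exact fun g hg => not_not.1 (hh ⟨g, hg⟩)
  let φ : ∀ g : 𝒜 1, TwistX.UnitFrac (𝒜 := 𝒜) n (Proj.basicOpen 𝒜 (g : A)) := fun g =>
    let ψ := TwistX.powFrac (𝒜 := 𝒜) g.2 SetLike.GradedOne.one_mem (zero_add 1).symm n (fun x => x.2)
      (fun x h => x.1.isPrime.ne_top ((Ideal.eq_top_iff_one _).mpr h))
    { ψ with deg := ψ.deg.trans (by simp) }
  haveI := isIso_desc (pairing ℳ n) (fun g : 𝒜 1 => Proj.basicOpen 𝒜 (g : A)) hcov
    (fun g => TwistX.fracSect (φ g)) (fun g => TwistX.isFrame_fracSect (φ g))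
    (fun g V h => mulSect_frame_bijective ℳ (φ g) h)
  exact ⟨(asIso (H23.TensorDesc.desc (pairing ℳ n))).symm⟩

end Groth.Agent.Eg2Twist
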