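import Groth.Agent.H23.TensorDesc
import Groth.Agent.InvX.Tensor

/-!
# Tensoring with a module which has frames
-/

noncomputable section

universe u

open CategoryTheory CategoryTheory.Limits AlgebraicGeometry TopologicalSpace Opposite MonoidalCategory
open Groth.Agent.AModX Groth.Agent.InvX

set_option backward.isDefEq.respectTransparency false

namespace Groth.Agent.Eg2Twist

variable {X : Scheme.{u}} {M N P : X.Modules}

lemma tmul_add_left {U : X.Opens} (a a' : Γ(M, U)) (b : Γ(N, U)) : tmul (a + a') b = tmul a b + tmul a' b   :=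
  (congrArg _ (KFlatLib.tm_add_left a a' b)).trans
    (map_add ((KFlatLib.unitShP (CohB1.toPMod M ⊗ CohB1.toPMod N)).app (op U)).hom _ _)

lemma tmul_zero_left {U : X.Opens} (b : Γ(N, U)) : tmul (0 : Γ(M, U)) b = 0 := by
  have h := tmul_smul_left (0 : Γ(X, U)) (0 : Γ(M, U)) b
  rwa [zero_smul, zero_smul] at h

/-- Near a point where `N` has a frame, a section of `M ⊗ N` is a pure tensor with the frame. -/
theorem exists_tmul_frame {U : X.Opens} {e : Γ(N, U)} (he : IsFrame e) {V : X.Opens}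
    (z : Γ(CohB1.tensorMod M N, V)) {x : X} (hxV : x ∈ V) (hxU : x ∈ U) :
    ∃ (W : X.Opens) (hV : W ≤ V) (hU : W ≤ U) (s : Γ(M, W)), x ∈ W ∧
      res (CohB1.tensorMod M N) hV z = tmul s (res N hU e) := by
  let P' := CohB1.toPMod M ⊗ CohB1.toPMod N
  haveI hi := KFlatLib.isIso_stalk_unitShP (x := x) P'
  obtain ⟨q, hq⟩ := (ConcreteCategory.bijective_of_isIso
    ((KFlatLib.stalkP x).map (KFlatLib.unitShP P'))).2
      (KFlatLib.germP (DCoh.toP.obj (DCoh.shP.obj P')) V hxV z)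
  obtain ⟨W, hxW, w, rfl⟩ := KFlatLib.exists_germP q
  have hq' : KFlatLib.germP (DCoh.toP.obj (DCoh.shP.obj P')) W hxW ((KFlatLib.unitShP P').app (op W) w) =
      KFlatLib.germP (DCoh.toP.obj (DCoh.shP.obj P')) V hxV z :=
    (KFlatLib.stalkModMap_germ _ W hxW w).symm.trans hq
  obtain ⟨W', hxW', i, j, hij⟩ := TopCat.Presheaf.germ_eq (C := AddCommGrpCat.{u})
    (DCoh.toP.obj (DCoh.shP.obj P')).presheaf x hxW hxV _ _ hq'
  refine ⟨W' ⊓ U, inf_le_left.trans j.le, inf_le_right, ?_⟩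
  suffices h : ∀ t : P'.obj (op W), ∃ s : Γ(M, W' ⊓ U),
      res (CohB1.tensorMod M N) (inf_le_left.trans i.le : W' ⊓ U ≤ W) ((KFlatLib.unitShP P').app (op W) t) =
        tmul s (res N inf_le_right e) by
    obtain ⟨s, hs⟩ := h w
    refine ⟨s, ⟨hxW', hxU⟩, Eq.trans ?_ hs⟩
    rw [← res_res (M := CohB1.tensorMod M N) j.le (inf_le_left : W' ⊓ U ≤ W'),
      ← res_res (M := CohB1.tensorMod M N) i.le (inf_le_left : W' ⊓ U ≤ W')]
    exact congrArg _ hij.symm
  intro t
  induction t using TensorProduct.induction_on with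
  | zero => exact ⟨0, by rw [map_zero, map_zero, tmul_zero_left]⟩
  | tmul a b =>
    obtain ⟨c, hc⟩ := he.exists_coord (inf_le_right : W' ⊓ U ≤ U) (res N (inf_le_left.trans i.le) b)
    refine ⟨c • res M (inf_le_left.trans i.le) a, ?_⟩
    exact (res_tmul _ a b).trans (by rw [hc, tmul_smul_right, tmul_smul_left])
  | add a b ha hb =>
    obtain ⟨s, hs⟩ := ha
    obtain ⟨s', hs'⟩ := hb
    exact ⟨s + s', by rw [map_add, map_add, hs, hs', tmul_add_left]⟩

lemma desc_tmul (β : H23.TensorDesc.Bilin M N P) {U : X.Opens} (m : Γ(M, U)) (n : Γ(N, U)) :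
    (H23.TensorDesc.desc β).app U (tmul m n) = β.b U m n :=
  H23.TensorDesc.desc_tmul β U m n

/-- A pairing with a module having frames is an isomorphism if it is bijective against each frame. -/
theorem isIso_desc (β : H23.TensorDesc.Bilin M N P) {ι : Type*} (U : ι → X.Opens)
    (hcov : ∀ x, ∃ a, x ∈ U a) (e : ∀ a, Γ(N, U a)) (he : ∀ a, IsFrame (e a))
    (hb : ∀ a (V : X.Opens) (h : V ≤ U a), Function.Bijective fun s : Γ(M, V) => β.b V s (res N h (e a))) :
    IsIso (H23.TensorDesc.desc β) := by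
  have hinj : ∀ (V : X.Opens) (z : Γ(CohB1.tensorMod M N, V)),
      (H23.TensorDesc.desc β).app V z = 0 → z = 0 := by
    intro V z hz
    refine eq_of_locally _ _ fun x hx => ?_
    obtain ⟨a, ha⟩ := hcov x
    obtain ⟨W, hV, hU, s, hxW, hs⟩ := exists_tmul_frame (he a) z hx ha
    refine ⟨W, hV, hxW, ?_⟩
    have hadd : ∀ (m m' : Γ(M, W)) n, β.b W (m + m') n = β.b W m n + β.b W m' n := β.add_left W
    have h0 : β.b W s (res N hU (e a)) = β.b W 0 (res N hU (e a)) := by
      have h1 := hadd 0 0 (res N hU (e a))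
      rw [add_zero, left_eq_add] at h1
      rw [h1, ← desc_tmul, ← hs, app_res, hz, map_zero]
    rw [hs, map_zero, (hb a W hU).1 h0, tmul_zero_left]
  refine Scheme.Modules.Hom.isIso_iff_isIso_app.2 fun V => (ConcreteCategory.isIso_iff_bijective _).2
    ⟨(injective_iff_map_eq_zero _).2 (hinj V), fun y => ?_⟩
  have hloc : ∀ x : V, ∃ (W : X.Opens) (hW : W ≤ V) (z : Γ(CohB1.tensorMod M N, W)), x.1 ∈ W ∧
      (H23.TensorDesc.desc β).app W z = res P hW y := by
    intro x
    obtain ⟨a, ha⟩ := hcov x.1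
    obtain ⟨s, hs⟩ := (hb a (V ⊓ U a) inf_le_right).2 (res P inf_le_left y)
    exact ⟨V ⊓ U a, inf_le_left, tmul s (res N inf_le_right (e a)), ⟨x.2, ha⟩, (desc_tmul β _ _).trans hs⟩
  choose W hW z hxW hz using hloc
  obtain ⟨Z, hZ, -⟩ := existsUnique_glue (M := CohB1.tensorMod M N) (V := V) W hW
    (fun x hx => ⟨⟨x, hx⟩, hxW ⟨x, hx⟩⟩) z fun x x' => by
      refine sub_eq_zero.1 (hinj _ _ ?_)
      rw [map_sub, app_res, app_res, hz, hz, res_res, res_res, sub_self]
  refine ⟨Z, eq_of_locally _ _ fun x hx => ⟨W ⟨x, hx⟩, hW _, hxW _, ?_⟩⟩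
  rw [← app_res, hZ, hz]

end Groth.Agent.Eg2Twist
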